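import Cfsg.Agent.Transpositions.ReflectionsModThree
import Cfsg.Agent.Forms.OrthClasses

/-!
# The reflection group over the field with three elements modulo its centre

The centre is `±1`, two members of the class have commuting images exactly when they are orthogonal or equal,
every isometry of odd order lies in the derived group, and elements of odd prime order of the quotient lift.
-/

set_option autoImplicit false
set_option linter.style.haveILetI false

namespace CfsgLib.FischerDisc.Refl

open Cfsg Matrix Module CfsgLib.Spinor CfsgLib.Forms CfsgLib.Transpositions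

variable {ι : Type} [Fintype ι] [DecidableEq ι] {Q : QuadraticForm (ZMod 3) (ι → ZMod 3)}

/-- A subgroup of index at most two contains the elements of odd order. -/
theorem mem_of_index_le_two {A : Type*} [Group A] [Finite A] {H : Subgroup A} (hH : H.index ≤ 2) {r : ℕ}
    (hr : Odd r) {g : A} (hg : g ^ r = 1) : g ∈ H := by
  have hs : g * g ∈ H := by
    rcases (by have := Subgroup.index_ne_zero_of_finite (H := H); omega : H.index = 1 ∨ H.index = 2) with h | h
    · rw [Subgroup.index_eq_one.1 h]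
      exact Subgroup.mem_top _
    · exact Subgroup.mul_self_mem_of_index_two h g
  obtain ⟨m, rfl⟩ := hr
  have h : g = (g * g) ^ (m + 1) := by
    rw [← _root_.sq, ← pow_mul, show 2 * (m + 1) = 2 * m + 1 + 1 by omega, pow_succ, hg, one_mul]
  rw [h]
  exact pow_mem hs _

/-- A vector of norm one orthogonal to two given ones, or a vector of norm one meeting both. -/
theorem exists_meet_both (hQ : (QuadraticMap.polarBilin Q).Nondegenerate) (hn : 5 ≤ Fintype.card ι)
    {v w : ι → ZMod 3} (hv : Q v = 1) (hw : Q w = 1) (ho : QuadraticMap.polar (⇑Q) v w = 0) :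
    ∃ x, Q x = 1 ∧ QuadraticMap.polar (⇑Q) v x ≠ 0 ∧ QuadraticMap.polar (⇑Q) w x ≠ 0 := by
  obtain ⟨z, hz, -, h1, h2⟩ := exists_orth_norm hQ hn one_ne_zero 2 hv hw ho
  have hwv : QuadraticMap.polar (⇑Q) w v = 0 := by rw [QuadraticMap.polar_comm, ho]
  refine ⟨v + w + z, ?_, ?_, ?_⟩
  · rw [QuadraticMap.map_add (⇑Q), QuadraticMap.map_add (⇑Q) v w, hv, hw, hz,
      QuadraticMap.polar_add_left, ho, h1, h2]
    decide
  · rw [QuadraticMap.polar_add_right, QuadraticMap.polar_add_right, ho, h1, add_zero, add_zero]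
    exact polar_self_ne_zero one_ne_zero hv
  · rw [QuadraticMap.polar_add_right, QuadraticMap.polar_add_right, hwv, h2, add_zero, zero_add]
    exact polar_self_ne_zero one_ne_zero hw

/-- An isometry moving every vector of norm one to itself or its negative is `±1`. -/
theorem scalar_of_pm (hQ : (QuadraticMap.polarBilin Q).Nondegenerate) (hn : 5 ≤ Fintype.card ι)
    (g : ↥(isometryGroup (ZMod 3) ⇑Q)) (hpm : ∀ v, Q v = 1 → mat Q g *ᵥ v = v ∨ mat Q g *ᵥ v = -v) :
    mat Q g = 1 ∨ mat Q g = -1 := by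
  have h2 : (2 : ZMod 3) ≠ 0 := by decide
  have key : ∀ a : ZMod 3, -a = a → a = 0 := by decide
  have hsign : ∀ v, Q v = 1 → ∃ ε : ZMod 3, (ε = 1 ∨ ε = -1) ∧ mat Q g *ᵥ v = ε • v := fun v hv =>
    (hpm v hv).elim (fun h => ⟨1, Or.inl rfl, by rw [h, one_smul]⟩)
      (fun h => ⟨-1, Or.inr rfl, by rw [h, neg_one_smul]⟩)
  have hmeet : ∀ (v w : ι → ZMod 3) (ε : ZMod 3), Q v = 1 → Q w = 1 → QuadraticMap.polar (⇑Q) v w ≠ 0 →
      mat Q g *ᵥ v = ε • v → mat Q g *ᵥ w = ε • w := by
    intro v w ε hv hw hp hgv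
    obtain ⟨δ, hδ, hgw⟩ := hsign w hw
    have h := polar_mulVec Q g v w
    rw [hgv, hgw, QuadraticMap.polar_smul_left, QuadraticMap.polar_smul_right, smul_eq_mul, smul_eq_mul] at h
    have key2 : ∀ a b c : ZMod 3, a * (b * c) = c → c ≠ 0 → a = b := by decide
    rw [hgw, key2 ε δ _ h hp]
  obtain ⟨u, hu⟩ := exists_value h2 hQ (by omega) 1
  obtain ⟨ε, hε, hgu⟩ := hsign u hu
  have hall : ∀ v, Q v = 1 → mat Q g *ᵥ v = ε • v := by
    intro v hv
    by_cases hp : QuadraticMap.polar (⇑Q) u v = 0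
    · obtain ⟨x, hx, h1, h2'⟩ := exists_meet_both hQ hn hu hv hp
      exact hmeet x v ε hx hv (by rwa [QuadraticMap.polar_comm]) (hmeet u x ε hu hx h1 hgu)
    · exact hmeet u v ε hu hv hp hgu
  obtain ⟨b, -, hb⟩ := exists_orthogonal_anisotropic_basis h2 hQ
  have hspan : ∀ i, mat Q g *ᵥ b i = ε • b i := by
    intro i
    by_cases hb1 : Q (b i) = 1
    · exact hall _ hb1
    have hbn : Q (b i) = -1 := by
      have key3 : ∀ x : ZMod 3, x ≠ 0 → x ≠ 1 → x = -1 := by decide
      exact key3 _ (hb i) hb1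
    obtain ⟨y, hy⟩ := exists_quad_value h2 (Q.comp (perpSub Q ![b i]).subtype)
      (sep_perpSub Q hQ.1 ![b i] (by simpa [polar_self', hbn] using h2))
      (by
        have := le_finrank_perpSub Q ![b i]
        have hd : finrank (ZMod 3) (ι → ZMod 3) = Fintype.card ι := finrank_fun_zmod
        omega) (-1)
    have hpy : QuadraticMap.polar (⇑Q) (b i) (y : ι → ZMod 3) = 0 := mem_perpSub.1 y.2 0
    have hy' : Q (y : ι → ZMod 3) = -1 := hy
    have hnum : (-1 : ZMod 3) + -1 + 0 = 1 := by decide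
    have e1 := hall (b i + y) (by rw [QuadraticMap.map_add (⇑Q), hbn, hy', hpy, hnum])
    have e2 := hall (b i + -(y : ι → ZMod 3)) (by
      rw [QuadraticMap.map_add (⇑Q), hbn, QuadraticMap.map_neg, hy', QuadraticMap.polar_neg_right, hpy,
        neg_zero, hnum])
    simp only [mulVec_add, mulVec_neg] at e1 e2
    have e3 : (2 : ZMod 3) • mat Q g *ᵥ b i = (2 : ZMod 3) • ε • b i := by
      linear_combination (norm := module) e1 + e2
    exact smul_right_injective _ h2 e3
  rcases hε with rfl | rfl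
  · left
    refine toLin'.injective (b.ext fun i => ?_)
    rw [toLin'_apply, toLin'_one, LinearMap.id_apply, hspan i, one_smul]
  · right
    refine toLin'.injective (b.ext fun i => ?_)
    rw [toLin'_apply, map_neg, toLin'_one, LinearMap.neg_apply, LinearMap.id_apply, hspan i, neg_one_smul]

theorem eq_or_neg_of_classRefl_eq {u v : ι → ZMod 3} (hu : Q u = 1) (hv : Q v = 1)
    (h : classRefl one_ne_zero u hu = classRefl one_ne_zero v hv) : v = u ∨ v = -u := by
  rcases (commute_classRefl_iff one_ne_zero hu hv).1 (by rw [h]) with h' | h'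
  · exact absurd h (classRefl_ne one_ne_zero hu hv h')
  · exact h'

theorem classRefl_conj (k : ↥(reflectionSubgroup (⇑Q) 1)) {v : ι → ZMod 3} (hv : Q v = 1) :
    k * classRefl one_ne_zero v hv * k⁻¹ =
      classRefl one_ne_zero (mat Q k.1 *ᵥ v) ((quad_mulVec Q k.1 v).trans hv) :=
  Subtype.ext (conj_reflIso Q k.1 v (hv ▸ one_ne_zero))

/-- An element commutes with a reflection exactly when it fixes the centre up to sign. -/
theorem commute_classRefl (k : ↥(reflectionSubgroup (⇑Q) 1)) {v : ι → ZMod 3} (hv : Q v = 1) :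
    Commute k (classRefl one_ne_zero v hv) ↔ (mat Q k.1 *ᵥ v = v ∨ mat Q k.1 *ᵥ v = -v) := by
  constructor
  · intro h
    refine eq_or_neg_of_classRefl_eq hv ((quad_mulVec Q k.1 v).trans hv) ?_
    rw [← classRefl_conj k hv, h.eq, mul_inv_cancel_right]
  · intro h
    have he := classRefl_eq_of_polar_ne one_ne_zero hv ((quad_mulVec Q k.1 v).trans hv) h
    rw [← classRefl_conj k hv] at he
    exact mul_inv_eq_iff_eq_mul.1 he

/-- The centre consists of scalars. -/
theorem mat_of_mem_center (hQ : (QuadraticMap.polarBilin Q).Nondegenerate) (hn : 5 ≤ Fintype.card ι)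
    {z : ↥(reflectionSubgroup (⇑Q) 1)} (hz : z ∈ Subgroup.center ↥(reflectionSubgroup (⇑Q) 1)) :
    mat Q z.1 = 1 ∨ mat Q z.1 = -1 :=
  scalar_of_pm hQ hn z.1 fun _ hv =>
    (commute_classRefl z hv).1 (Subgroup.mem_center_iff.1 hz _).symm

theorem sq_of_mem_center (hQ : (QuadraticMap.polarBilin Q).Nondegenerate) (hn : 5 ≤ Fintype.card ι)
    {z : ↥(reflectionSubgroup (⇑Q) 1)} (hz : z ∈ Subgroup.center ↥(reflectionSubgroup (⇑Q) 1)) :
    z ^ 2 = 1 := by
  refine Subtype.ext (mat_ext Q ?_)
  rw [pow_two, Subgroup.coe_mul, mat_mul, Subgroup.coe_one, mat_one]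
  rcases mat_of_mem_center hQ hn hz with h | h <;> rw [h] <;> simp

/-- The projection. -/
abbrev proj (Q : QuadraticForm (ZMod 3) (ι → ZMod 3)) :
    ↥(reflectionSubgroup (⇑Q) 1) →*
      ↥(reflectionSubgroup (⇑Q) 1) ⧸ Subgroup.center ↥(reflectionSubgroup (⇑Q) 1) :=
  QuotientGroup.mk' _

theorem proj_eq_one {k : ↥(reflectionSubgroup (⇑Q) 1)} :
    proj Q k = 1 ↔ k ∈ Subgroup.center ↥(reflectionSubgroup (⇑Q) 1) :=
  QuotientGroup.eq_one_iff k

theorem mul_self_classRefl {v : ι → ZMod 3} (hv : Q v = 1) :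
    classRefl one_ne_zero v hv * classRefl one_ne_zero v hv = 1 :=
  Subtype.ext (mat_ext Q (reflectionMatrix_mul_self Q (hv ▸ one_ne_zero)))

/-- The projection separates the class. -/
theorem proj_classRefl_inj (hQ : (QuadraticMap.polarBilin Q).Nondegenerate) (hn : 5 ≤ Fintype.card ι)
    {u v : ι → ZMod 3} (hu : Q u = 1) (hv : Q v = 1)
    (h : proj Q (classRefl one_ne_zero u hu) = proj Q (classRefl one_ne_zero v hv)) : v = u ∨ v = -u := by
  have hm : classRefl one_ne_zero u hu * classRefl one_ne_zero v hv ∈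
      Subgroup.center ↥(reflectionSubgroup (⇑Q) 1) := by
    rw [← proj_eq_one, map_mul, h, ← map_mul, mul_self_classRefl, map_one]
  rcases mat_of_mem_center hQ hn hm with he | he
  · have h1 : classRefl one_ne_zero u hu * classRefl one_ne_zero v hv = 1 := Subtype.ext (mat_ext Q he)
    refine eq_or_neg_of_classRefl_eq hu hv ?_
    calc classRefl one_ne_zero u hu
        = classRefl one_ne_zero u hu * (classRefl one_ne_zero v hv * classRefl one_ne_zero v hv) := by
          rw [mul_self_classRefl, mul_one]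
      _ = classRefl one_ne_zero v hv := by rw [← mul_assoc, h1, one_mul]
  · exfalso
    obtain ⟨z, hz, h1, h2⟩ := exists_common_orth hQ hn one_ne_zero hu hv
    have e := congrArg (· *ᵥ z) he
    simp only [classRefl, Subgroup.coe_mul, mat_mul, ← mulVec_mulVec, mat_reflIso, reflectionMatrix_mulVec,
      refl_apply, h1, h2, mul_zero, zero_smul, sub_zero, neg_mulVec, one_mulVec] at e
    have hz0 : (2 : ZMod 3) • z = 0 := by linear_combination (norm := module) e
    have : z = 0 := (smul_eq_zero.1 hz0).resolve_left (by decide)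
    rw [this, QuadraticMap.map_zero] at hz
    exact zero_ne_one hz

/-- Two members with commuting images are equal or orthogonal. -/
theorem orth_of_commute (hQ : (QuadraticMap.polarBilin Q).Nondegenerate) (hn : 5 ≤ Fintype.card ι)
    {u v : ι → ZMod 3} (hu : Q u = 1) (hv : Q v = 1)
    (hne : proj Q (classRefl one_ne_zero u hu) ≠ proj Q (classRefl one_ne_zero v hv))
    (h : Commute (proj Q (classRefl one_ne_zero u hu)) (proj Q (classRefl one_ne_zero v hv))) :
    QuadraticMap.polar (⇑Q) u v = 0 := by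
  by_contra hp
  rcases (reflClass_isThreeTranspositionSet (one_ne_zero (α := ZMod 3))).2 _ (classRefl_mem one_ne_zero u hu) _
      (classRefl_mem one_ne_zero v hv) with h' | h'
  · have hc : Commute (classRefl one_ne_zero u hu) (classRefl one_ne_zero v hv) := by
      rw [pow_two] at h'
      have e := mul_eq_one_iff_eq_inv.1 h'
      rw [_root_.mul_inv_rev, inv_eq_of_mul_eq_one_right (mul_self_classRefl hu),
        inv_eq_of_mul_eq_one_right (mul_self_classRefl hv)] at e
      exact e
    rcases (commute_classRefl_iff one_ne_zero hu hv).1 hc with e | e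
    · exact hp e
    · exact hne (congrArg _ (classRefl_eq_of_polar_ne one_ne_zero hu hv e).symm)
  · apply hne
    have h3 : (proj Q (classRefl one_ne_zero u hu) * proj Q (classRefl one_ne_zero v hv)) ^ 3 = 1 := by
      rw [← map_mul, ← map_pow, h', map_one]
    have h2 : (proj Q (classRefl one_ne_zero u hu) * proj Q (classRefl one_ne_zero v hv)) ^ 2 = 1 := by
      rw [h.mul_pow, pow_two, pow_two, ← map_mul, ← map_mul, mul_self_classRefl, mul_self_classRefl,
        map_one, one_mul]
    rw [pow_succ, h2, one_mul] at h3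
    rw [mul_eq_one_iff_eq_inv, ← map_inv, inv_eq_of_mul_eq_one_right (mul_self_classRefl hv)] at h3
    exact h3

theorem index_reflectionSubgroup (hQ : (QuadraticMap.polarBilin Q).Nondegenerate)
    (hn : 5 ≤ Fintype.card ι) : (reflectionSubgroup (⇑Q) 1).index = 2 := by
  have h := index_closure_class_of_dim (c := (1 : ZMod 3)) (by decide) hQ (by omega) (Or.inr (by omega))
    (fun h => by omega) one_ne_zero
  have ht : ∀ t : ZMod 3, t ≠ 0 → t ^ 2 = 1 := by decide
  rw [reflectionSubgroup]
  convert h using 3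
  ext g
  constructor
  · rintro ⟨v, hv, hg⟩
    exact ⟨v, 1, one_ne_zero, by rw [hv]; ring, hg⟩
  · rintro ⟨v, t, ht0, hv, hg⟩
    exact ⟨v, by rw [hv, ht t ht0, mul_one], hg⟩

/-- An isometry of odd prime order gives an element of that order in the derived group of the quotient. -/
theorem exists_proj_of_isometry (hQ : (QuadraticMap.polarBilin Q).Nondegenerate)
    (hn : 5 ≤ Fintype.card ι) {r : ℕ} (hr : r.Prime) (hr2 : r ≠ 2) {g : ↥(isometryGroup (ZMod 3) ⇑Q)}
    (hg : orderOf g = r) :
    ∃ k : ↥(reflectionSubgroup (⇑Q) 1), k.1 = g ∧ proj Q k ∈ commutator _ ∧ orderOf (proj Q k) = r := by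
  have hodd : Odd r := hr.odd_of_ne_two hr2
  have hgr : g ^ r = 1 := hg ▸ pow_orderOf_eq_one g
  obtain ⟨k, hk⟩ : ∃ k : ↥(reflectionSubgroup (⇑Q) 1), k.1 = g :=
    ⟨⟨g, mem_of_index_le_two (index_reflectionSubgroup hQ hn).le hodd hgr⟩, rfl⟩
  have hkr : k ^ r = 1 := Subtype.ext (by rw [Subgroup.coe_pow, hk, hgr, Subgroup.coe_one])
  have hm := mem_of_index_le_two (reflClass_structure hQ hn one_ne_zero).2.1 hodd hkr
  refine ⟨k, hk, ?_, ?_⟩
  · have : proj Q k ∈ (commutator _).map (proj Q) := ⟨k, hm, rfl⟩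
    rw [commutator_def, Subgroup.map_commutator] at this
    exact Subgroup.commutator_mono le_top le_top this
  · haveI : Fact r.Prime := ⟨hr⟩
    refine orderOf_eq_prime (by rw [← map_pow, hkr, map_one]) fun h => ?_
    have hg1 : g = 1 := by
      have h2 := sq_of_mem_center hQ hn (proj_eq_one.1 h)
      obtain ⟨m, hm'⟩ := hodd
      rw [hm', pow_succ, pow_mul, h2, one_pow, one_mul] at hkr
      rw [← hk, hkr, Subgroup.coe_one]
    rw [hg1, orderOf_one] at hg
    exact hr.ne_one hg.symm

/-- An element of odd prime order of the quotient lifts with the same order. -/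
theorem exists_lift (hQ : (QuadraticMap.polarBilin Q).Nondegenerate) (hn : 5 ≤ Fintype.card ι) {r : ℕ}
    (hr : r.Prime) (hr2 : r ≠ 2) {y : ↥(reflectionSubgroup (⇑Q) 1) ⧸ Subgroup.center ↥(reflectionSubgroup (⇑Q) 1)}
    (hy : orderOf y = r) :
    ∃ k : ↥(reflectionSubgroup (⇑Q) 1), proj Q k = y ∧ k ^ r = 1 ∧ orderOf (k : ↥(isometryGroup (ZMod 3) ⇑Q)) = r := by
  haveI : Fact r.Prime := ⟨hr⟩
  obtain ⟨k0, hk0⟩ := QuotientGroup.mk'_surjective _ y
  have hyr : y ^ r = 1 := hy ▸ pow_orderOf_eq_one y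
  have hz := sq_of_mem_center hQ hn (proj_eq_one.1 (show proj Q (k0 ^ r) = 1 by rw [map_pow, hk0, hyr]))
  obtain ⟨m, hm⟩ := hr.odd_of_ne_two hr2
  have hy' : proj Q (k0 ^ (r + 1)) = y := by rw [map_pow, hk0, pow_succ, hyr, one_mul]
  have hpow : (k0 ^ (r + 1)) ^ r = 1 := by
    rw [← pow_mul, mul_comm, pow_mul, hm, show 2 * m + 1 + 1 = 2 * (m + 1) by omega, pow_mul, ← hm, hz,
      one_pow]
  refine ⟨k0 ^ (r + 1), hy', hpow, orderOf_eq_prime (by rw [← Subgroup.coe_pow, hpow, Subgroup.coe_one]) fun h => ?_⟩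
  rw [show k0 ^ (r + 1) = 1 from Subtype.ext h, map_one] at hy'
  rw [← hy', orderOf_one] at hy
  exact hr.ne_one hy.symm

/-- Elements of odd order commuting in the quotient commute. -/
theorem commute_of_proj (hQ : (QuadraticMap.polarBilin Q).Nondegenerate) (hn : 5 ≤ Fintype.card ι) {r : ℕ}
    (hr : Odd r) {k a : ↥(reflectionSubgroup (⇑Q) 1)} (hk : k ^ r = 1)
    (h : Commute (proj Q k) (proj Q a)) : Commute k a := by
  obtain ⟨z, hz⟩ : ∃ z, z = k⁻¹ * (a * k * a⁻¹) := ⟨_, rfl⟩
  have hzc : z ∈ Subgroup.center ↥(reflectionSubgroup (⇑Q) 1) := by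
    rw [← proj_eq_one, hz, map_mul, map_mul, map_mul, ← h.eq, map_inv, map_inv, mul_inv_cancel_right,
      inv_mul_cancel]
  have hc : Commute k z := Subgroup.mem_center_iff.1 hzc k
  have e : k * z = a * k * a⁻¹ := by rw [hz, mul_inv_cancel_left]
  have hzr : z ^ r = 1 := by
    have := congrArg (· ^ r) e
    simp only [hc.mul_pow, hk, one_mul, conj_pow, mul_one, mul_inv_cancel] at this
    exact this
  have hz2 := sq_of_mem_center hQ hn hzc
  obtain ⟨m, rfl⟩ := hr
  rw [pow_succ, pow_mul, hz2, one_pow, one_mul] at hzr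
  rw [hzr, mul_one] at e
  exact mul_inv_eq_iff_eq_mul.1 e.symm |>.symm

/-- An element of odd order commuting with a reflection in the quotient fixes its centre. -/
theorem fix_of_commute (hQ : (QuadraticMap.polarBilin Q).Nondegenerate) (hn : 5 ≤ Fintype.card ι) {r : ℕ}
    (hr : Odd r) {k : ↥(reflectionSubgroup (⇑Q) 1)} (hk : k ^ r = 1) {v : ι → ZMod 3} (hv : Q v = 1)
    (h : Commute (proj Q k) (proj Q (classRefl one_ne_zero v hv))) : mat Q k.1 *ᵥ v = v := by
  refine ((commute_classRefl k hv).1 (commute_of_proj hQ hn hr hk h)).resolve_right fun he => ?_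
  have hpow : ∀ m : ℕ, mat Q (k.1 ^ m) *ᵥ v = ((-1 : ZMod 3) ^ m) • v := by
    intro m
    induction m with
    | zero => rw [pow_zero, pow_zero, mat_one, one_mulVec, one_smul]
    | succ m ih =>
      rw [pow_succ', mat_mul, ← mulVec_mulVec, ih, mulVec_smul, he, pow_succ, mul_smul, neg_one_smul]
  have h1 := hpow r
  rw [← Subgroup.coe_pow, hk, Subgroup.coe_one, mat_one, one_mulVec, hr.neg_one_pow, neg_one_smul] at h1
  have hv0 : (2 : ZMod 3) • v = 0 := by linear_combination (norm := module) h1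
  rw [(smul_eq_zero.1 hv0).resolve_left (by decide), QuadraticMap.map_zero] at hv
  exact zero_ne_one hv

/-- An isometry carrying one vector of norm one to another, fixing what is orthogonal to both. -/
theorem exists_map_vec {v w : ι → ZMod 3} (hv : Q v = 1) (hw : Q w = 1) :
    ∃ h : ↥(isometryGroup (ZMod 3) ⇑Q), mat Q h *ᵥ v = w ∧
      ∀ x, QuadraticMap.polar (⇑Q) v x = 0 → QuadraticMap.polar (⇑Q) w x = 0 → mat Q h *ᵥ x = x := by
  have hwv : QuadraticMap.polar (⇑Q) w v = QuadraticMap.polar (⇑Q) v w := QuadraticMap.polar_comm _ _ _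
  have hfix : ∀ a x : ι → ZMod 3, QuadraticMap.polar (⇑Q) a x = 0 →
      reflectionMatrix (⇑Q) a *ᵥ x = x := fun a x h => by
    rw [reflectionMatrix_mulVec, refl_apply, h, mul_zero, zero_smul, sub_zero]
  by_cases hd : Q (v - w) = 0
  · have hs : Q (v + w) ≠ 0 := by
      intro h
      rw [QuadraticMap.map_add (⇑Q), hv, hw] at h
      rw [sub_eq_add_neg, QuadraticMap.map_add (⇑Q), QuadraticMap.map_neg, hv, hw,
        QuadraticMap.polar_neg_right] at hd
      revert h hd
      generalize QuadraticMap.polar (⇑Q) v w = a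
      revert a
      decide
    refine ⟨reflIso Q w (hw ▸ one_ne_zero) * reflIso Q (v + w) hs, ?_, fun x h1 h2 => ?_⟩
    · have e : refl Q (v + w) v = -w := by
        rw [refl_apply, QuadraticMap.polar_add_left, hwv, polar_self', hv,
          show 2 * (1 : ZMod 3) + QuadraticMap.polar (⇑Q) v w = Q (v + w) by
            rw [QuadraticMap.map_add (⇑Q), hv, hw]; ring, inv_mul_cancel₀ hs, one_smul]
        abel
      rw [mat_mul, ← mulVec_mulVec, mat_reflIso, mat_reflIso, reflectionMatrix_mulVec Q (v + w), e,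
        reflectionMatrix_mulVec, refl_apply, QuadraticMap.polar_neg_right, polar_self', hw]
      module
    · rw [mat_mul, ← mulVec_mulVec, mat_reflIso, mat_reflIso,
        hfix (v + w) x (by rw [QuadraticMap.polar_add_left, h1, h2, add_zero]), hfix w x h2]
  · refine ⟨reflIso Q (v - w) hd, ?_, fun x h1 h2 => ?_⟩
    · have e : QuadraticMap.polar (⇑Q) (v - w) v = Q (v - w) := by
        rw [QuadraticMap.polar_sub_left, hwv, polar_self', hv, sub_eq_add_neg v w,
          QuadraticMap.map_add (⇑Q), QuadraticMap.map_neg, hv, hw, QuadraticMap.polar_neg_right]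
        ring
      rw [mat_reflIso, reflectionMatrix_mulVec, refl_apply, e, inv_mul_cancel₀ hd, one_smul, sub_sub_cancel]
    · rw [mat_reflIso, hfix (v - w) x (by rw [QuadraticMap.polar_sub_left, h1, h2, sub_zero])]

end CfsgLib.FischerDisc.Refl
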