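import Cfsg.Agent.FischerDisc.Refl.Order
import Cfsg.Agent.FischerDisc.Refl.Basic
import Cfsg.Agent.AutPOmega.Congr

/-!
# An element of primitive order fixing two orthogonal vectors of norm one
-/

set_option autoImplicit false
set_option linter.style.haveILetI false

namespace CfsgLib.FischerDisc.Refl

open Matrix Module CfsgLib.Spinor CfsgLib.FischerThm CfsgLib.AutPOmega

/-- The weights of the split coordinates. -/
def splitW (m : ℕ) : Fin 4 ⊕ Fin m → ZMod 3 :=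
  Sum.elim ![1, 1, -1, 1] fun i => if i.val = 0 then -1 else 1

/-- A primitive element in a minus type complement of four coordinates. -/
theorem exists_order_fix (j : ℕ) (hj : 2 ≤ j) (hje : Even j) {r : ℕ} (hr : r.Prime) (hd : r ∣ 3 ^ j + 1)
    {v v' : Fin (2 * (j + 2)) → ZMod 3} (hv : stdQ (2 * (j + 2)) 1 v = 1) (hv' : stdQ (2 * (j + 2)) 1 v' = 1)
    (ho : QuadraticMap.polar (⇑(stdQ (2 * (j + 2)) 1)) v v' = 0) :
    ∃ g : ↥(Cfsg.isometryGroup (ZMod 3) ⇑(stdQ (2 * (j + 2)) 1)),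
      orderOf g = r ∧ mat _ g *ᵥ v = v ∧ mat _ g *ᵥ v' = v' := by
  have h2 : (2 : ZMod 3) ≠ 0 := by decide
  obtain ⟨i, rfl⟩ : ∃ i, j = i + 1 := ⟨j - 1, by omega⟩
  obtain ⟨g0, hg0⟩ := exists_order_minus i (-1)
    ((Nat.not_even_iff_odd.1 fun h => by simp [Nat.even_add_one, h] at hje).neg_one_pow (α := ZMod 3)).symm hr hd
  obtain ⟨n, hn⟩ : ∃ n, n = 2 * (i + 1) := ⟨_, rfl⟩
  set Q := stdQ (2 * (i + 1 + 2)) 1 with hQdef
  let Qw : QuadraticForm (ZMod 3) (Fin 4 ⊕ Fin (2 * (i + 1)) → ZMod 3) :=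
    QuadraticMap.weightedSumSquares (ZMod 3) (splitW (2 * (i + 1)))
  have hQw : ∀ x, Qw x = (x (Sum.inl 0) * x (Sum.inl 0) + x (Sum.inl 1) * x (Sum.inl 1) +
      -(x (Sum.inl 2) * x (Sum.inl 2)) + x (Sum.inl 3) * x (Sum.inl 3)) +
      stdQ (2 * (i + 1)) (-1) (x ∘ Sum.inr) := fun x => by
    simp [Qw, splitW, QuadraticMap.weightedSumSquares_apply, Fintype.sum_sum_type, Fin.sum_univ_four,
      stdQ]
  have hM : LinearMap.BilinForm.toMatrix (Pi.basisFun (ZMod 3) (Fin 4 ⊕ Fin (2 * (i + 1))))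
      (QuadraticMap.polarBilin Qw) = diagonal fun a => 2 * splitW (2 * (i + 1)) a := by
    ext a b
    rw [LinearMap.BilinForm.toMatrix_apply, QuadraticMap.polarBilin_apply_apply, Pi.basisFun_apply,
      Pi.basisFun_apply, QuadraticMap.polar]
    simp only [Qw, QuadraticMap.weightedSumSquares_apply, Pi.add_apply, smul_eq_mul, ← Finset.sum_sub_distrib]
    rw [Finset.sum_eq_single a (fun c _ hc => by simp [Pi.single_eq_of_ne hc]) (by simp), diagonal_apply]
    by_cases hab : a = b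
    · subst hab
      simp only [Pi.single_eq_same, if_true]
      ring
    · simp [Pi.single_eq_of_ne hab, hab]
  have hdet : (LinearMap.BilinForm.toMatrix (Pi.basisFun (ZMod 3) (Fin 4 ⊕ Fin (2 * (i + 1))))
      (QuadraticMap.polarBilin Qw)).det = 1 := by
    have h := det_stdQ (i + 1) (by omega) (-1)
    rw [toMatrix_stdQ, det_diagonal] at h
    rw [hM, det_diagonal, Fintype.prod_sum_type, Fin.prod_univ_four]
    simp only [splitW, Sum.elim_inl, Sum.elim_inr, h]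
    decide
  obtain ⟨L, hL⟩ := Forms.exists_isometry_of_isSquare h2 (QuadraticMap.polarBilin Q)
    (QuadraticMap.polarBilin Qw) ⟨fun x y => QuadraticMap.polar_comm _ x y⟩
    ⟨fun x y => QuadraticMap.polar_comm _ x y⟩ (Pi.basisFun (ZMod 3) (Fin (2 * (i + 1 + 2))))
    (Pi.basisFun (ZMod 3) (Fin 4 ⊕ Fin (2 * (i + 1))))
    (by simp only [Fintype.card_fin, Fintype.card_sum]; omega)
    (by rw [hQdef, det_stdQ _ (by omega)]; exact one_ne_zero) (by rw [hdet]; exact one_ne_zero)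
    (by rw [hQdef, det_stdQ _ (by omega), hdet]; exact ⟨1, rfl⟩)
  have hLQ : ∀ x, Qw (L x) = Q x := fun x => by
    have h1 := hL x x
    rw [QuadraticMap.polarBilin_apply_apply, QuadraticMap.polarBilin_apply_apply, polar_self',
      polar_self'] at h1
    exact mul_left_cancel₀ h2 h1
  -- the extension by the identity
  let Φ : Matrix (Fin (2 * (i + 1))) (Fin (2 * (i + 1))) (ZMod 3) →*
      Matrix (Fin (2 * (i + 1 + 2))) (Fin (2 * (i + 1 + 2))) (ZMod 3) :=
    { toFun := fun A => congrMat L (fromBlocks (1 : Matrix (Fin 4) (Fin 4) (ZMod 3)) 0 0 A)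
      map_one' := by rw [fromBlocks_one, congrMat_one]
      map_mul' := fun A B => by rw [← congrMat_mul, fromBlocks_multiply]; simp }
  have hΦ : ∀ A x, Φ A *ᵥ x = L.symm (fromBlocks (1 : Matrix (Fin 4) (Fin 4) (ZMod 3)) 0 0 A *ᵥ L x) :=
    fun A x => congrMat_mulVec L _ x
  let ψ : ↥(Cfsg.isometryGroup (ZMod 3) ⇑(stdQ (2 * (i + 1)) (-1))) →* ↥(Cfsg.isometryGroup (ZMod 3) ⇑Q) :=
    ((Units.map Φ).comp (Subgroup.subtype _)).codRestrict _ fun g => by
      rw [FieldEmb.mem_isometryGroup]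
      intro x
      show Q (Φ (mat _ g) *ᵥ x) = Q x
      rw [hΦ, ← hLQ, L.apply_symm_apply, ← hLQ x, hQw, hQw, fromBlocks_mulVec]
      simp [quad_mulVec]
  have hψ : Function.Injective ψ := fun a b h => by
    have h' : congrMat L (fromBlocks (1 : Matrix (Fin 4) (Fin 4) (ZMod 3)) 0 0 (mat _ a)) =
        congrMat L (fromBlocks (1 : Matrix (Fin 4) (Fin 4) (ZMod 3)) 0 0 (mat _ b)) := congrArg (mat Q) h
    have h'' := congrArg (congrMat L.symm) h'
    rw [congrMat_symm, congrMat_symm] at h''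
    exact mat_ext _ (fromBlocks_inj.1 h'').2.2.2
  have hfix : ∀ a : Fin 4, mat Q (ψ g0) *ᵥ L.symm (Pi.single (Sum.inl a) 1) = L.symm (Pi.single (Sum.inl a) 1) := by
    intro a
    show Φ (mat _ g0) *ᵥ _ = _
    rw [hΦ, L.apply_symm_apply, mulVec_single_one]
    congr 1
    funext b
    rcases b with b | b
    · simp [fromBlocks, Matrix.one_apply, Pi.single_apply]
    · simp [fromBlocks]
  obtain ⟨e, he⟩ : ∃ e : Fin 4 → (Fin (2 * (i + 1 + 2)) → ZMod 3),
      e = fun a => L.symm (Pi.single (Sum.inl a) 1) := ⟨_, rfl⟩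
  have hcomp : ∀ a : Fin 4, (Pi.single (Sum.inl a) 1 : Fin 4 ⊕ Fin (2 * (i + 1)) → ZMod 3) ∘ Sum.inr = 0 :=
    fun a => by funext b; simp
  have he0 : Q (e 0) = 1 := by rw [he, ← hLQ, L.apply_symm_apply, hQw, hcomp]; simp
  have he1 : Q (e 1) = 1 := by rw [he, ← hLQ, L.apply_symm_apply, hQw, hcomp]; simp
  have he01 : QuadraticMap.polar (⇑Q) (e 0) (e 1) = 0 := by
    rw [QuadraticMap.polar, ← hLQ, ← hLQ (e 0), ← hLQ (e 1), map_add, he]
    simp only [L.apply_symm_apply, hQw]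
    simp [Pi.add_comp, hcomp]
  -- move the pair
  obtain ⟨h1, hh1, -⟩ := exists_map_vec he0 hv
  have hw : Q (mat Q h1 *ᵥ e 1) = 1 := (quad_mulVec Q h1 _).trans he1
  have hvw : QuadraticMap.polar (⇑Q) (mat Q h1 *ᵥ e 1) v = 0 := by
    rw [← hh1, polar_mulVec, QuadraticMap.polar_comm, he01]
  obtain ⟨h2', hh2, hh2f⟩ := exists_map_vec hw hv'
  have hh2v : mat Q h2' *ᵥ v = v := hh2f v hvw (by rw [QuadraticMap.polar_comm, ho])
  refine ⟨h2' * h1 * ψ g0 * (h2' * h1)⁻¹, ?_, ?_, ?_⟩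
  · rw [← hg0, ← orderOf_injective ψ hψ g0]
    exact orderOf_injective (MulAut.conj (h2' * h1)).toMonoidHom (MulAut.conj (h2' * h1)).injective (ψ g0)
  all_goals
    have key : ∀ a, mat Q (h2' * h1 * ψ g0 * (h2' * h1)⁻¹) *ᵥ (mat Q (h2' * h1) *ᵥ e a) =
        mat Q (h2' * h1) *ᵥ e a := fun a => by
      rw [mulVec_mulVec, ← mat_mul, inv_mul_cancel_right, mat_mul, ← mulVec_mulVec]
      congr 1
      rw [he]
      exact hfix a
  · have := key 0
    rwa [mat_mul Q h2' h1, ← mulVec_mulVec, hh1, hh2v] at this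
  · have := key 1
    rwa [mat_mul Q h2' h1, ← mulVec_mulVec, hh2] at this

end CfsgLib.FischerDisc.Refl
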