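import Cfsg.Agent.FischerDisc.Refl.Zeros
import Cfsg.Agent.Spinor.Reflection

/-!
# Fixed spaces of isometries of primitive prime order over the field with three elements

If `r` divides `3 ^ d - 1` for no smaller positive exponent, an isometry of order `r` has fixed space of
codimension a multiple of `d`. With `d = 2j`, `j` even and the codimension `2j`, no such isometry commutes
with an isometry of square `-1`: the fixed space would contradict the count of singular vectors.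
-/

set_option autoImplicit false
set_option linter.style.haveILetI false

namespace CfsgLib.FischerDisc.Refl

open Matrix Module CfsgLib.Spinor

theorem dvd_of_primitive {r d m : ℕ} (hd : 0 < d) (h : r ∣ 3 ^ d - 1)
    (hp : ∀ i, 0 < i → i < d → ¬ r ∣ 3 ^ i - 1) (hm : r ∣ 3 ^ m - 1) : d ∣ m := by
  have hd1 : ((3 : ℕ) : ZMod r) ^ d = 1 := by
    have := (ZMod.natCast_eq_zero_iff _ _).2 h
    rw [Nat.cast_sub (Nat.one_le_pow _ _ (by norm_num)), Nat.cast_one, Nat.cast_pow, sub_eq_zero] at this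
    exact this
  have hm1 : ((3 : ℕ) : ZMod r) ^ m = 1 := by
    have := (ZMod.natCast_eq_zero_iff _ _).2 hm
    rw [Nat.cast_sub (Nat.one_le_pow _ _ (by norm_num)), Nat.cast_one, Nat.cast_pow, sub_eq_zero] at this
    exact this
  rcases Nat.eq_zero_or_pos (m % d) with h0 | h0
  · exact Nat.dvd_of_mod_eq_zero h0
  refine absurd ?_ (hp (m % d) h0 (Nat.mod_lt _ hd))
  rw [← ZMod.natCast_eq_zero_iff, Nat.cast_sub (Nat.one_le_pow _ _ (by norm_num)), Nat.cast_one,
    Nat.cast_pow, sub_eq_zero]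
  rw [← Nat.mod_add_div m d, pow_add, pow_mul, hd1, one_pow, mul_one] at hm1
  exact hm1

theorem three_not_dvd_of_primitive {r d : ℕ} (hr : r.Prime) (hd : 0 < d) (h : r ∣ 3 ^ d - 1) : r ≠ 3 := by
  rintro rfl
  have h1 : 3 ∣ 3 ^ d := dvd_pow_self 3 hd.ne'
  have := Nat.dvd_sub h1 h
  rw [Nat.sub_sub_self (Nat.one_le_pow _ _ (by norm_num))] at this
  norm_num at this

variable {ι : Type} [Fintype ι] [DecidableEq ι] {Q : QuadraticForm (ZMod 3) (ι → ZMod 3)}

/-- The fixed vectors of an isometry. -/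
def fixSp (g : ↥(Cfsg.isometryGroup (ZMod 3) ⇑Q)) : Submodule (ZMod 3) (ι → ZMod 3) :=
  LinearMap.ker ((mat Q g).toLin' - LinearMap.id)

theorem mem_fixSp {g : ↥(Cfsg.isometryGroup (ZMod 3) ⇑Q)} {x : ι → ZMod 3} :
    x ∈ fixSp g ↔ mat Q g *ᵥ x = x := by
  simp [fixSp, sub_eq_zero]

theorem mat_pow (g : ↥(Cfsg.isometryGroup (ZMod 3) ⇑Q)) (k : ℕ) : mat Q (g ^ k) = mat Q g ^ k := by
  induction k with
  | zero => rfl
  | succ k ih => rw [pow_succ, pow_succ, mat_mul, ih]

/-- An element of order `r` moves the members of a stable set in orbits of length one or `r`. -/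
theorem card_modEq_fixed {r : ℕ} [Fact r.Prime] {g : ↥(Cfsg.isometryGroup (ZMod 3) ⇑Q)}
    (hg : g ^ r = 1) (P : (ι → ZMod 3) → Prop) (hP : ∀ x, P (mat Q g *ᵥ x) ↔ P x) :
    Nat.card {x // P x} ≡ Nat.card {x // P x ∧ mat Q g *ᵥ x = x} [MOD r] := by
  classical
  have hpow : ∀ x, (mat Q g ^ r) *ᵥ x = x := fun x => by
    rw [← mat_pow, hg, mat_one, one_mulVec]
  obtain ⟨s, hs⟩ : ∃ s, r = s + 1 := ⟨r - 1, by have := (Fact.out : r.Prime).pos; omega⟩
  let σ : Equiv.Perm {x // P x} :=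
    { toFun := fun x => ⟨mat Q g *ᵥ x.1, (hP _).2 x.2⟩
      invFun := fun x => ⟨(mat Q g ^ s) *ᵥ x.1, (hP _).1 (by
        rw [mulVec_mulVec, ← pow_succ', ← hs, hpow]
        exact x.2)⟩
      left_inv := fun x => Subtype.ext (by
        show (mat Q g ^ s) *ᵥ (mat Q g *ᵥ x.1) = x.1
        rw [mulVec_mulVec, ← pow_succ, ← hs, hpow])
      right_inv := fun x => Subtype.ext (by
        show mat Q g *ᵥ ((mat Q g ^ s) *ᵥ x.1) = x.1
        rw [mulVec_mulVec, ← pow_succ', ← hs, hpow]) }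
  have hval : ∀ k : ℕ, ∀ x, ((σ ^ k) x).1 = (mat Q g ^ k) *ᵥ x.1 := by
    intro k
    induction k with
    | zero => intro x; simp
    | succ k ih =>
      intro x
      rw [pow_succ', Equiv.Perm.mul_apply, pow_succ']
      show mat Q g *ᵥ ((σ ^ k) x).1 = _
      rw [ih, mulVec_mulVec]
  have hσ : σ ^ r = 1 := Equiv.ext fun x => Subtype.ext (by rw [hval, hpow]; rfl)
  have hG : IsPGroup r (Subgroup.zpowers σ) := fun ⟨y, hy⟩ => by
    obtain ⟨k, rfl⟩ := Subgroup.mem_zpowers_iff.1 hy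
    refine ⟨1, Subtype.ext ?_⟩
    show (σ ^ k) ^ (r ^ 1) = 1
    rw [pow_one, ← zpow_natCast, ← _root_.zpow_mul, mul_comm, _root_.zpow_mul, zpow_natCast, hσ, _root_.one_zpow]
  refine (hG.card_modEq_card_fixedPoints {x // P x}).trans ?_
  rw [Nat.card_congr ((Equiv.subtypeEquivRight (q := fun x : {x // P x} => mat Q g *ᵥ x.1 = x.1) fun x => ?_).trans
    (Equiv.subtypeSubtypeEquivSubtypeInter P fun x => mat Q g *ᵥ x = x))]
  constructor
  · intro h
    exact congrArg Subtype.val (h ⟨σ, Subgroup.mem_zpowers σ⟩)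
  · intro h
    rintro ⟨y, hy⟩
    obtain ⟨k, rfl⟩ := Subgroup.mem_zpowers_iff.1 hy
    have h' : σ x = x := Subtype.ext h
    exact Equiv.Perm.zpow_apply_eq_self_of_apply_eq_self h' k

/-- The codimension of the fixed space. -/
theorem dvd_sub_finrank {r d : ℕ} (hr : r.Prime) (hd : 0 < d) (h : r ∣ 3 ^ d - 1)
    (hp : ∀ i, 0 < i → i < d → ¬ r ∣ 3 ^ i - 1) {g : ↥(Cfsg.isometryGroup (ZMod 3) ⇑Q)} (hg : g ^ r = 1) :
    d ∣ Fintype.card ι - finrank (ZMod 3) (fixSp g) := by
  haveI : Fact r.Prime := ⟨hr⟩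
  have hm := card_modEq_fixed hg (fun _ => True) (fun _ => Iff.rfl)
  rw [Nat.card_congr (Equiv.subtypeUnivEquiv fun _ => trivial), Nat.card_congr
    (Equiv.subtypeEquivRight (q := (· ∈ fixSp g)) fun x => by simp [mem_fixSp]),
    Nat.card_fun, Nat.card_zmod, Nat.card_eq_fintype_card (α := ι),
    Module.natCard_eq_pow_finrank (K := ZMod 3) (V := fixSp g), Nat.card_zmod] at hm
  have hle : finrank (ZMod 3) (fixSp g) ≤ Fintype.card ι := by
    have := Submodule.finrank_le (fixSp g)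
    rwa [Module.finrank_pi] at this
  set f := finrank (ZMod 3) (fixSp g)
  refine dvd_of_primitive hd h hp ?_
  have h3 := (Nat.modEq_iff_dvd' (Nat.pow_le_pow_right (by norm_num) hle)).1 hm.symm
  rw [show 3 ^ Fintype.card ι - 3 ^ f = 3 ^ f * (3 ^ (Fintype.card ι - f) - 1) by
    rw [Nat.mul_sub, mul_one, ← pow_add, Nat.add_sub_cancel' hle]] at h3
  refine (Nat.Coprime.dvd_of_dvd_mul_left ?_ h3)
  exact Nat.Coprime.pow_right _ ((Nat.coprime_primes hr Nat.prime_three).2
    (three_not_dvd_of_primitive hr hd h))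

/-- The fixed space of an element of order prime to three is nondegenerate. -/
theorem sep_fixSp {r : ℕ} (hr : r.Prime) (h3 : r ≠ 3) (hQ : (QuadraticMap.polarBilin Q).Nondegenerate)
    {g : ↥(Cfsg.isometryGroup (ZMod 3) ⇑Q)} (hg : g ^ r = 1) :
    ∀ x : fixSp g, (∀ y : fixSp g, QuadraticMap.polar (⇑(Q.comp (fixSp g).subtype)) x y = 0) → x = 0 := by
  intro x hx
  refine Subtype.ext (hQ.1 x.1 fun y => ?_)
  rw [QuadraticMap.polarBilin_apply_apply]
  set M := mat Q g with hM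
  obtain ⟨w, hw⟩ : ∃ w, w = ∑ i ∈ Finset.range r, (M ^ i) *ᵥ y := ⟨_, rfl⟩
  have hwmem : w ∈ fixSp g := by
    rw [mem_fixSp, ← hM, hw, mulVec_sum]
    simp_rw [mulVec_mulVec, ← pow_succ']
    have h1 := Finset.sum_range_succ' (fun i => (M ^ i) *ᵥ y) r
    have h2 := Finset.sum_range_succ (fun i => (M ^ i) *ᵥ y) r
    have hMr : (M ^ r) *ᵥ y = (M ^ 0) *ᵥ y := by rw [hM, ← mat_pow, hg, mat_one, pow_zero]
    rw [h2, hMr] at h1
    exact (add_right_cancel h1).symm
  have hfix : ∀ i : ℕ, (M ^ i) *ᵥ x.1 = x.1 := by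
    intro i
    induction i with
    | zero => rw [pow_zero, one_mulVec]
    | succ i ih => rw [pow_succ', ← mulVec_mulVec, ih, hM, mem_fixSp.1 x.2]
  have h0 : QuadraticMap.polar (⇑Q) x.1 w = 0 := by
    have := hx ⟨w, hwmem⟩
    simpa [QuadraticMap.polar] using this
  have hterm : ∀ i : ℕ, QuadraticMap.polar (⇑Q) x.1 ((M ^ i) *ᵥ y) = QuadraticMap.polar (⇑Q) x.1 y := fun i => by
    conv_lhs => rw [← hfix i]
    rw [hM, ← mat_pow, polar_mulVec]
  rw [hw, ← QuadraticMap.polarBilin_apply_apply, map_sum] at h0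
  simp only [QuadraticMap.polarBilin_apply_apply, hterm, Finset.sum_const, Finset.card_range,
    nsmul_eq_mul] at h0
  refine (mul_eq_zero.1 h0).resolve_left fun h => h3 ?_
  exact ((Nat.prime_dvd_prime_iff_eq Nat.prime_three hr).1 ((ZMod.natCast_eq_zero_iff _ _).1 h)).symm

/-- An element whose order is primitive for the whole dimension fixes no vector. -/
theorem no_fixed {r d : ℕ} (hr : r.Prime) (hd : 0 < d) (hι : Fintype.card ι = d) (h : r ∣ 3 ^ d - 1)
    (hp : ∀ i, 0 < i → i < d → ¬ r ∣ 3 ^ i - 1) {g : ↥(Cfsg.isometryGroup (ZMod 3) ⇑Q)}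
    (hg : orderOf g = r) {v : ι → ZMod 3} (hv : v ≠ 0) : mat Q g *ᵥ v ≠ v := by
  intro hgv
  have hdvd := dvd_sub_finrank hr hd h hp (hg ▸ pow_orderOf_eq_one g)
  have hpos : 0 < finrank (ZMod 3) (fixSp g) :=
    Module.finrank_pos_iff.2 ⟨⟨⟨v, mem_fixSp.2 hgv⟩, 0, fun e => hv (congrArg Subtype.val e)⟩⟩
  rw [hι] at hdvd
  have hlt : d - finrank (ZMod 3) (fixSp g) < d := by omega
  have htop : fixSp g = ⊤ := by
    refine Submodule.eq_top_of_finrank_eq ?_
    have hle := Submodule.finrank_le (fixSp g)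
    rw [Module.finrank_pi] at hle ⊢
    have := Nat.eq_zero_of_dvd_of_lt hdvd hlt
    omega
  have hg1 : g = 1 := mat_ext Q (toLin'.injective (LinearMap.ext fun x => by
    rw [toLin'_apply, toLin'_apply, mat_one, one_mulVec]
    exact mem_fixSp.1 (htop ▸ Submodule.mem_top)))
  rw [hg1, orderOf_one] at hg
  exact hr.ne_one hg.symm

/-- No element of primitive order for `2j`, `j` even, commutes with a square root of `-1`. -/
theorem not_commute_sqrt {r j k : ℕ} (hr : r.Prime) (hj : 0 < j) (hje : Even j) (hι : Fintype.card ι = 2 * k)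
    (hkj : k < 2 * j) (h : r ∣ 3 ^ (2 * j) - 1) (hp : ∀ i, 0 < i → i < 2 * j → ¬ r ∣ 3 ^ i - 1)
    (hQ : (QuadraticMap.polarBilin Q).Nondegenerate)
    {g u : ↥(Cfsg.isometryGroup (ZMod 3) ⇑Q)} (hg : orderOf g = r) (hu : mat Q u * mat Q u = -1) :
    ¬ Commute g u := by
  intro hc
  haveI : Fact r.Prime := ⟨hr⟩
  have hgr : g ^ r = 1 := hg ▸ pow_orderOf_eq_one g
  have h3 : r ≠ 3 := three_not_dvd_of_primitive hr (by omega) h
  have huu : ∀ x, mat Q u *ᵥ (mat Q u *ᵥ x) = -x := fun x => by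
    rw [mulVec_mulVec, hu, neg_mulVec, one_mulVec]
  have hcm : ∀ x, mat Q g *ᵥ (mat Q u *ᵥ x) = mat Q u *ᵥ (mat Q g *ᵥ x) := fun x => by
    rw [mulVec_mulVec, mulVec_mulVec, ← mat_mul, ← mat_mul, hc.eq]
  let uF : fixSp g →ₗ[ZMod 3] fixSp g :=
    ((mat Q u).toLin'.comp (fixSp g).subtype).codRestrict _ fun x => by
      rw [mem_fixSp, LinearMap.comp_apply, toLin'_apply, Submodule.subtype_apply, hcm, mem_fixSp.1 x.2]
  obtain ⟨i, hi, hZF⟩ := card_zero_of_sqrt _ (fixSp g) (Q.comp (fixSp g).subtype) rfl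
    (sep_fixSp hr h3 hQ hgr) uF (fun x => Subtype.ext (huu x.1)) (fun x => quad_mulVec Q u x.1)
  obtain ⟨k', hk', hZ⟩ := card_zero_of_sqrt _ (ι → ZMod 3) Q rfl
    (fun x hx => hQ.1 x fun y => hx y) (mat Q u).toLin' huu (fun x => quad_mulVec Q u x)
  rw [Module.finrank_pi, hι] at hk'
  obtain rfl : k' = k := by omega
  have hdvd := dvd_sub_finrank hr (by omega) h hp hgr
  rw [hι, hi, ← Nat.mul_sub] at hdvd
  have hle : i ≤ k' := by
    have := Submodule.finrank_le (fixSp g)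
    rw [Module.finrank_pi, hι, hi] at this
    omega
  have hne : i ≠ k' := by
    rintro rfl
    have htop : fixSp g = ⊤ := Submodule.eq_top_of_finrank_eq (by rw [Module.finrank_pi, hι, hi])
    have hg1 : g = 1 := mat_ext Q (toLin'.injective (LinearMap.ext fun x => by
      rw [toLin'_apply, toLin'_apply, mat_one, one_mulVec]
      exact mem_fixSp.1 (htop ▸ Submodule.mem_top)))
    rw [hg1, orderOf_one] at hg
    exact hr.ne_one hg.symm
  obtain ⟨c, hc'⟩ := (Nat.mul_dvd_mul_iff_left (by norm_num : 0 < 2)).1 hdvd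
  have hij : k' = i + j := by
    rcases c with _ | _ | c
    · omega
    · omega
    · exfalso; rw [mul_add, mul_add] at hc'; omega
  have hmod := card_modEq_fixed hgr (fun x => Q x = 0) (fun x => by rw [quad_mulVec])
  rw [show Nat.card {x // Q x = 0 ∧ mat Q g *ᵥ x = x} =
      Nat.card {x : fixSp g // (Q.comp (fixSp g).subtype) x = 0} from
    Nat.card_congr ((Equiv.subtypeEquivRight fun x => by rw [← mem_fixSp, and_comm]).trans
      (Equiv.subtypeSubtypeEquivSubtypeInter (· ∈ fixSp g) fun x => Q x = 0).symm)] at hmod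
  -- the two counts in the field with `r` elements
  have hz : ((Nat.card {x // Q x = 0} : ℤ) : ZMod r) =
      ((Nat.card {x : fixSp g // (Q.comp (fixSp g).subtype) x = 0} : ℤ) : ZMod r) := by
    push_cast
    exact (ZMod.natCast_eq_natCast_iff _ _ _).2 hmod
  have e1 := congrArg (fun z : ℤ => (z : ZMod r)) hZ
  have e2 := congrArg (fun z : ℤ => (z : ZMod r)) hZF
  simp only [Int.cast_mul, Int.cast_add, Int.cast_pow, hz] at e1 e2
  rw [e2] at e1
  push_cast at e1
  have h9 : (9 : ZMod r) ^ j = 1 := by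
    have := (ZMod.natCast_eq_zero_iff _ _).2 h
    rw [Nat.cast_sub (Nat.one_le_pow _ _ (by norm_num)), Nat.cast_one, Nat.cast_pow, sub_eq_zero, pow_mul] at this
    norm_num at this
    exact this
  rw [hij, pow_add, pow_add, h9, mul_one, hje.neg_pow (3 : ZMod r), add_right_inj] at e1
  have e3 : (2 * (-3 : ZMod r) ^ i) * ((3 : ZMod r) ^ j - 1) = 0 := by linear_combination -e1
  rcases mul_eq_zero.1 e3 with e | e
  · rcases mul_eq_zero.1 e with e | e
    · have h2 : ((2 : ℕ) : ZMod r) = 0 := by exact_mod_cast e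
      have hr2 := (Nat.prime_dvd_prime_iff_eq hr Nat.prime_two).1 ((ZMod.natCast_eq_zero_iff _ _).1 h2)
      subst hr2
      exact hp 1 one_pos (by omega) (by norm_num)
    · have h3' : ((3 : ℕ) : ZMod r) = 0 := by
        have := pow_eq_zero_iff'.1 e
        rw [neg_eq_zero] at this
        exact_mod_cast this.1
      exact h3 ((Nat.prime_dvd_prime_iff_eq hr Nat.prime_three).1 ((ZMod.natCast_eq_zero_iff _ _).1 h3'))
  · refine hp j hj (by omega) ?_
    rw [← ZMod.natCast_eq_zero_iff, Nat.cast_sub (Nat.one_le_pow _ _ (by norm_num)), Nat.cast_one,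
      Nat.cast_pow]
    exact_mod_cast e

end CfsgLib.FischerDisc.Refl
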