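import Cfsg.Agent.FischerThm.Defs
import Cfsg.Agent.Forms.PlusType
import Cfsg.Agent.Forms4.OrthogonalOrders
import Cfsg.Agent.FieldEmb.Basic
import Cfsg.Agent.Spinor.Reflection
import Cfsg.Agent.Zsigmondy.Basic

/-!
# Elements of primitive prime order in orthogonal groups of minus type over three elements
-/

set_option autoImplicit false
set_option linter.style.haveILetI false

namespace CfsgLib.FischerDisc.Refl

open Matrix Module CfsgLib.Spinor CfsgLib.FischerThm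

/-- The determinant of the hyperbolic block. -/
theorem det_swap (m : ℕ) {F : Type} [Field F] :
    (fromBlocks (0 : Matrix (Fin m) (Fin m) F) (1 : Matrix (Fin m) (Fin m) F)
      (1 : Matrix (Fin m) (Fin m) F) (0 : Matrix (Fin m) (Fin m) F)).det = (-1) ^ m := by
  have h : fromBlocks (0 : Matrix (Fin m) (Fin m) F) (1 : Matrix (Fin m) (Fin m) F)
      (1 : Matrix (Fin m) (Fin m) F) (0 : Matrix (Fin m) (Fin m) F) =
      fromBlocks (1 : Matrix (Fin m) (Fin m) F) (1 : Matrix (Fin m) (Fin m) F) (0 : Matrix (Fin m) (Fin m) F)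
          (1 : Matrix (Fin m) (Fin m) F) *
        (fromBlocks (1 : Matrix (Fin m) (Fin m) F) (0 : Matrix (Fin m) (Fin m) F)
          (-1 : Matrix (Fin m) (Fin m) F) (1 : Matrix (Fin m) (Fin m) F) *
        (fromBlocks (1 : Matrix (Fin m) (Fin m) F) (1 : Matrix (Fin m) (Fin m) F) (0 : Matrix (Fin m) (Fin m) F)
          (1 : Matrix (Fin m) (Fin m) F) *
        fromBlocks (-1 : Matrix (Fin m) (Fin m) F) (0 : Matrix (Fin m) (Fin m) F)
          (0 : Matrix (Fin m) (Fin m) F) (1 : Matrix (Fin m) (Fin m) F))) := by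
    simp [fromBlocks_multiply]
  rw [h]
  simp [det_mul, det_neg]

/-- The order of the isometry group of a form of minus type in dimension `2j + 2`. -/
theorem card_isometryGroup_minus {ι : Type} [Fintype ι] [DecidableEq ι] (j : ℕ)
    (Q : QuadraticForm (ZMod 3) (ι → ZMod 3)) (hcard : Fintype.card ι = 2 * (j + 1))
    (hd : (LinearMap.BilinForm.toMatrix (Pi.basisFun (ZMod 3) ι) (QuadraticMap.polarBilin Q)).det = (-1) ^ j) :
    Nat.card (Cfsg.isometryGroup (ZMod 3) ⇑Q) =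
      2 * 3 ^ ((j + 1) * j) * (3 ^ (j + 1) + 1) * ∏ i ∈ Finset.range j, (3 ^ (2 * (i + 1)) - 1) := by
  have h2 : (2 : ZMod 3) ≠ 0 := by decide
  have hab : ∀ z₁ z₂ : ZMod 3, z₁ ^ 2 + 0 * z₁ * z₂ + 1 * z₂ ^ 2 = 0 → z₁ = 0 ∧ z₂ = 0 := by decide
  let Qm : QuadraticForm (ZMod 3) ((Fin j ⊕ Fin j) ⊕ Fin 2 → ZMod 3) :=
    Forms4.sumForm j (Forms4.binForm (0 : ZMod 3) 1)
  have hM : LinearMap.BilinForm.toMatrix (Pi.basisFun (ZMod 3) ((Fin j ⊕ Fin j) ⊕ Fin 2))
      (QuadraticMap.polarBilin Qm) =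
      fromBlocks (fromBlocks 0 1 1 0) 0 0 (diagonal fun _ : Fin 2 => (2 : ZMod 3)) := by
    ext a b
    rw [LinearMap.BilinForm.toMatrix_apply, QuadraticMap.polarBilin_apply_apply, Forms4.polar_sumForm,
      Pi.basisFun_apply, Pi.basisFun_apply, QuadraticMap.polar, Forms4.coe_binForm]
    rcases a with (a | a) | a <;> rcases b with (b | b) | b
    all_goals simp [fromBlocks, Matrix.one_apply, Pi.single_apply, eq_comm]
    all_goals (fin_cases a <;> fin_cases b <;> simp [one_add_one_eq_two] <;> decide)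
  have hdm : (LinearMap.BilinForm.toMatrix (Pi.basisFun (ZMod 3) ((Fin j ⊕ Fin j) ⊕ Fin 2))
      (QuadraticMap.polarBilin Qm)).det = (-1) ^ j := by
    rw [hM, det_fromBlocks_zero₁₂, det_swap, det_diagonal, Fin.prod_univ_two,
      show (2 : ZMod 3) * 2 = 1 by decide, mul_one]
  have hne : ((-1 : ZMod 3)) ^ j ≠ 0 := pow_ne_zero _ (neg_ne_zero.2 one_ne_zero)
  obtain ⟨L, hL⟩ := Forms.exists_isometry_of_isSquare h2 (QuadraticMap.polarBilin Q)
    (QuadraticMap.polarBilin Qm) ⟨fun x y => QuadraticMap.polar_comm _ x y⟩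
    ⟨fun x y => QuadraticMap.polar_comm _ x y⟩ (Pi.basisFun (ZMod 3) ι)
    (Pi.basisFun (ZMod 3) ((Fin j ⊕ Fin j) ⊕ Fin 2))
    (by simp only [hcard, Fintype.card_sum, Fintype.card_fin]; omega) (by rw [hd]; exact hne)
    (by rw [hdm]; exact hne) (by rw [hd, hdm]; exact ⟨(-1) ^ j, rfl⟩)
  have hLQ : ∀ x, Qm (L x) = Q x := fun x => by
    have h1 := hL x x
    rw [QuadraticMap.polarBilin_apply_apply, QuadraticMap.polarBilin_apply_apply, polar_self',
      polar_self'] at h1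
    exact mul_left_cancel₀ h2 h1
  obtain ⟨φ, hφ⟩ := CfsgLib.FieldEmb.exists_hom_of_equiv (⇑Q) (⇑Qm) L (fun v => hLQ v)
  obtain ⟨χ, hχ⟩ := CfsgLib.FieldEmb.exists_hom_of_equiv (⇑Qm) (⇑Q) L.symm
    (fun v => by rw [← hLQ (L.symm v), L.apply_symm_apply])
  have heq : Nat.card (Cfsg.isometryGroup (ZMod 3) ⇑Q) = Nat.card (Cfsg.isometryGroup (ZMod 3) ⇑Qm) :=
    le_antisymm (Nat.card_le_card_of_injective φ hφ) (Nat.card_le_card_of_injective χ hχ)
  rw [heq, Forms4.coe_sumForm, Forms4.hsum_minus]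
  exact Forms4.card_isometryGroup_quadFormMinus (q := 3) (ZMod.card 3) (j + 1) (by omega) 0 1 hab

theorem toMatrix_stdQ (n : ℕ) (s : ZMod 3) :
    LinearMap.BilinForm.toMatrix (Pi.basisFun (ZMod 3) (Fin n)) (QuadraticMap.polarBilin (stdQ n s)) =
      diagonal fun i : Fin n => 2 * (if i.val = 0 then s else 1) := by
  ext a b
  rw [LinearMap.BilinForm.toMatrix_apply, QuadraticMap.polarBilin_apply_apply, Pi.basisFun_apply,
    Pi.basisFun_apply, QuadraticMap.polar, stdQ]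
  simp only [QuadraticMap.weightedSumSquares_apply, Pi.add_apply, smul_eq_mul, ← Finset.sum_sub_distrib]
  rw [Finset.sum_eq_single a (fun c _ hc => by simp [Pi.single_eq_of_ne hc]) (by simp), diagonal_apply]
  by_cases hab : a = b
  · subst hab
    simp only [Pi.single_eq_same, if_pos rfl]
    split_ifs <;> ring
  · simp [Pi.single_eq_of_ne hab, hab]

theorem stdQ_nondegenerate (n : ℕ) {s : ZMod 3} (hs : s ≠ 0) :
    (QuadraticMap.polarBilin (stdQ n s)).Nondegenerate := by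
  refine (LinearMap.BilinForm.nondegenerate_iff_det_ne_zero (Pi.basisFun (ZMod 3) (Fin n))).2 ?_
  rw [toMatrix_stdQ, det_diagonal]
  refine Finset.prod_ne_zero_iff.2 fun i _ => mul_ne_zero (by decide) ?_
  split_ifs
  exacts [hs, one_ne_zero]

theorem det_stdQ (k : ℕ) (hk : 1 ≤ k) (s : ZMod 3) :
    (LinearMap.BilinForm.toMatrix (Pi.basisFun (ZMod 3) (Fin (2 * k)))
      (QuadraticMap.polarBilin (stdQ (2 * k) s))).det = s := by
  obtain ⟨k, rfl⟩ : ∃ j, k = j + 1 := ⟨k - 1, by omega⟩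
  rw [toMatrix_stdQ, det_diagonal, Finset.prod_mul_distrib, Finset.prod_const, Finset.card_univ,
    Fintype.card_fin, pow_mul, show ((2 : ZMod 3)) ^ 2 = 1 by decide, one_pow, one_mul,
    Finset.prod_eq_single (⟨0, by omega⟩ : Fin (2 * (k + 1)))
      (fun c _ hc => if_neg fun h => hc (Fin.ext h)) (by simp)]
  simp

/-- An element of primitive prime order in a minus type group. -/
theorem exists_order_minus (j : ℕ) (s : ZMod 3) (hs : s = (-1) ^ j) {r : ℕ} (hr : r.Prime)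
    (hdvd : r ∣ 3 ^ (j + 1) + 1) :
    ∃ g : ↥(Cfsg.isometryGroup (ZMod 3) ⇑(stdQ (2 * (j + 1)) s)), orderOf g = r := by
  haveI : Fact r.Prime := ⟨hr⟩
  refine exists_prime_orderOf_dvd_card' r ?_
  rw [card_isometryGroup_minus j _ (by simp) (by rw [det_stdQ _ (by omega), hs])]
  exact dvd_mul_of_dvd_left (dvd_mul_of_dvd_right hdvd _) _

/-- A primitive prime of `3 ^ (2 j) - 1` divides `3 ^ j + 1`. -/
theorem exists_primitive (j : ℕ) (hj : 2 ≤ j) :
    ∃ r : ℕ, r.Prime ∧ r ∣ 3 ^ j + 1 ∧ ∀ i, 0 < i → i < 2 * j → ¬ r ∣ 3 ^ i - 1 := by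
  obtain ⟨r, hr, hd, hp⟩ := CfsgLib.Zsigmondy.exists_primitive_prime 3 (2 * j) (by norm_num) (by omega)
    (by omega) (by omega)
  refine ⟨r, hr, ?_, hp⟩
  have hfac : 3 ^ (2 * j) - 1 = (3 ^ j + 1) * (3 ^ j - 1) := by
    rw [two_mul, pow_add, ← Nat.sq_sub_sq, sq, one_pow]
  rw [hfac] at hd
  rcases hr.dvd_mul.1 hd with h | h
  · exact h
  · exact absurd h (hp j (by omega) (by omega))

end CfsgLib.FischerDisc.Refl
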