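import Cfsg.Agent.FischerThm.Defs
import Cfsg.Agent.Forms.OrthPerp

/-!
# Counting singular vectors over the field with three elements

A space with an isometry `u`, `u² = -1`, has even dimension `2i` and `3 Z = 9^i + 2 (-3)^i` singular vectors;
the diagonal form with coefficients `-1, 1, …, 1` in dimension `2i + 2` has the other number.
-/

set_option autoImplicit false
set_option linter.style.haveILetI false

namespace CfsgLib.FischerDisc.Refl

open Module CfsgLib.Forms

/-- Singular vectors of a sum of a plane and another form. -/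
theorem card_zero_prod {P W : Type*} [Finite P] [Finite W] (q : P → ZMod 3) (f : W → ZMod 3) (A B : ℕ)
    (hq : ∀ d, Nat.card {p : P // q p = d} = if d = 0 then A else B) :
    (Nat.card {x : P × W // q x.1 + f x.2 = 0} : ℤ) =
      (A : ℤ) * Nat.card {w : W // f w = 0} +
        (B : ℤ) * ((Nat.card W : ℤ) - Nat.card {w : W // f w = 0}) := by
  classical
  haveI := Fintype.ofFinite P
  haveI := Fintype.ofFinite W
  let e : {x : P × W // q x.1 + f x.2 = 0} ≃ Σ w : W, {p : P // q p = - f w} :=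
    { toFun := fun x => ⟨x.1.2, x.1.1, eq_neg_of_add_eq_zero_left x.2⟩
      invFun := fun y => ⟨(y.2.1, y.1), by rw [y.2.2, neg_add_cancel]⟩
      left_inv := fun _ => rfl
      right_inv := fun _ => rfl }
  rw [Nat.card_congr e, Nat.card_sigma]
  simp_rw [hq, neg_eq_zero]
  rw [Finset.sum_ite, Finset.sum_const, Finset.sum_const, smul_eq_mul, smul_eq_mul]
  have h := Finset.card_filter_add_card_filter_not (s := (Finset.univ : Finset W)) (fun w => f w = 0)
  rw [Finset.card_univ] at h
  rw [Nat.card_eq_fintype_card (α := {w : W // f w = 0}), Fintype.card_subtype,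
    Nat.card_eq_fintype_card (α := W), ← h]
  push_cast
  ring

/-- The values of a definite plane. -/
theorem card_definite (c : ZMod 3) (hc : c ≠ 0) (d : ZMod 3) :
    Nat.card {p : ZMod 3 × ZMod 3 // c * (p.1 * p.1 + p.2 * p.2) = d} = if d = 0 then 1 else 4 := by
  rw [Nat.card_eq_fintype_card]
  revert c d
  decide

/-- The values of a hyperbolic plane. -/
theorem card_hyperbolic (d : ZMod 3) :
    Nat.card {p : ZMod 3 × ZMod 3 // -(p.1 * p.1) + p.2 * p.2 = d} = if d = 0 then 5 else 2 := by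
  rw [Nat.card_eq_fintype_card]
  revert d
  decide

/-- The number of singular vectors of a space with a square root of `-1`. -/
theorem card_zero_of_sqrt : ∀ (n : ℕ) (V : Type) [AddCommGroup V] [Module (ZMod 3) V] [Finite V]
    (Q : QuadraticForm (ZMod 3) V), finrank (ZMod 3) V = n →
    (∀ x, (∀ y, QuadraticMap.polar (⇑Q) x y = 0) → x = 0) → ∀ u : V →ₗ[ZMod 3] V,
    (∀ x, u (u x) = -x) → (∀ x, Q (u x) = Q x) →
    ∃ i, n = 2 * i ∧ (3 * Nat.card {x : V // Q x = 0} : ℤ) = 9 ^ i + 2 * (-3) ^ i := by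
  intro n
  induction n using Nat.strong_induction_on with
  | _ n ih =>
    intro V _ _ _ Q hn hsep u huu huQ
    rcases Nat.eq_zero_or_pos n with rfl | hpos
    · refine ⟨0, rfl, ?_⟩
      haveI : Subsingleton V := Module.finrank_zero_iff.1 hn
      have : Nat.card {x : V // Q x = 0} = 1 := by
        rw [Nat.card_eq_one_iff_unique]
        exact ⟨inferInstance, ⟨⟨0, QuadraticMap.map_zero Q⟩⟩⟩
      rw [this]
      norm_num
    haveI : Nontrivial V := Module.nontrivial_of_finrank_pos (R := ZMod 3) (hn ▸ hpos)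
    obtain ⟨e, he⟩ : ∃ e, Q e ≠ 0 := by
      by_contra h
      push Not at h
      obtain ⟨x, hx⟩ := exists_ne (0 : V)
      exact hx (hsep x fun y => by simp [QuadraticMap.polar, h])
    have hBu : ∀ x y, QuadraticMap.polar (⇑Q) (u x) (u y) = QuadraticMap.polar (⇑Q) x y := fun x y => by
      simp only [QuadraticMap.polar, ← map_add, huQ]
    have he1 : QuadraticMap.polar (⇑Q) e (u e) = 0 := by
      have h := hBu (u e) e
      rw [huu, QuadraticMap.polar_neg_left] at h
      have hc : QuadraticMap.polar (⇑Q) (u e) e = QuadraticMap.polar (⇑Q) e (u e) := by rw [QuadraticMap.polar_comm]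
      rw [hc] at h
      have key : ∀ a : ZMod 3, -a = a → a = 0 := by decide
      exact key _ h
    have he2 : QuadraticMap.polar (⇑Q) (u e) e = 0 := by rw [QuadraticMap.polar_comm, he1]
    have hee : QuadraticMap.polar (⇑Q) e e = 2 * Q e := by rw [QuadraticMap.polar_self, two_nsmul, two_mul]
    have hff : QuadraticMap.polar (⇑Q) (u e) (u e) = 2 * Q e := by rw [hBu, hee]
    set W := perpSub Q ![e, u e] with hW
    have hmem : ∀ w, w ∈ W ↔ QuadraticMap.polar (⇑Q) e w = 0 ∧ QuadraticMap.polar (⇑Q) (u e) w = 0 := fun w => by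
      rw [hW, mem_perpSub, Fin.forall_fin_two]
      rfl
    have hsepW := sep_perpSub Q hsep ![e, u e] (by
      have h20 : (2 : ZMod 3) * Q e ≠ 0 := mul_ne_zero (by decide) he
      rw [Matrix.det_fin_two]
      simp only [Matrix.of_apply, Matrix.cons_val_zero, Matrix.cons_val_one, hee, hff, he1, he2,
        mul_zero, sub_zero]
      exact mul_ne_zero h20 h20)
    have hWu : ∀ w ∈ W, u w ∈ W := fun w hw => by
      rw [hmem] at hw ⊢
      refine ⟨?_, by rw [hBu, hw.1]⟩
      rw [show e = u (-(u e)) by rw [map_neg, huu, neg_neg], hBu, QuadraticMap.polar_neg_left,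
        hw.2, neg_zero]
    let uW : W →ₗ[ZMod 3] W := (u.comp W.subtype).codRestrict W fun w => hWu w.1 w.2
    let φ : (ZMod 3 × ZMod 3) × W → V := fun p => p.1.1 • e + p.1.2 • u e + (p.2 : V)
    have hBe : ∀ p, QuadraticMap.polar (⇑Q) e (φ p) = p.1.1 * (2 * Q e) ∧ QuadraticMap.polar (⇑Q) (u e) (φ p) = p.1.2 * (2 * Q e) := fun p => by
      obtain ⟨h1, h2⟩ := (hmem _).1 p.2.2
      simp only [φ, QuadraticMap.polar_add_right, QuadraticMap.polar_smul_right, hee, hff,
        he1, he2, h1, h2, smul_eq_mul]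
      simp
    have h20 : (2 : ZMod 3) * Q e ≠ 0 := mul_ne_zero (by decide) he
    have hφ : Function.Bijective φ := by
      refine ⟨fun p p' h => ?_, fun x => ?_⟩
      · have h1 : p.1.1 = p'.1.1 := mul_right_cancel₀ h20 ((hBe p).1.symm.trans (h ▸ (hBe p').1))
        have h2 : p.1.2 = p'.1.2 := mul_right_cancel₀ h20 ((hBe p).2.symm.trans (h ▸ (hBe p').2))
        simp only [φ, h1, h2, add_right_inj] at h
        exact Prod.ext (Prod.ext h1 h2) (Subtype.ext h)
      · obtain ⟨a, ha⟩ : ∃ a, a = QuadraticMap.polar (⇑Q) e x * (2 * Q e)⁻¹ := ⟨_, rfl⟩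
        obtain ⟨b, hb⟩ : ∃ b, b = QuadraticMap.polar (⇑Q) (u e) x * (2 * Q e)⁻¹ := ⟨_, rfl⟩
        have hw : x - (a • e + b • u e) ∈ W := by
          rw [hmem]
          simp only [QuadraticMap.polar_sub_right, QuadraticMap.polar_add_right,
            QuadraticMap.polar_smul_right, hee, hff, he1, he2, smul_eq_mul, ha, hb]
          constructor <;>
            · rw [inv_mul_cancel_right₀ h20]; ring
        exact ⟨((a, b), ⟨_, hw⟩), by simp [φ]⟩
    have hQφ : ∀ p, Q (φ p) = Q e * (p.1.1 * p.1.1 + p.1.2 * p.1.2) + Q (p.2 : V) := fun p => by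
      obtain ⟨h1, h2⟩ := (hmem _).1 p.2.2
      simp only [φ, QuadraticMap.map_add (⇑Q), QuadraticMap.map_smul, huQ, QuadraticMap.polar_add_left, QuadraticMap.polar_smul_left,
        QuadraticMap.polar_smul_right, he1, h1, h2, smul_eq_mul]
      ring
    -- dimensions
    have hnW : n = finrank (ZMod 3) W + 2 := by
      have h := Nat.card_congr (Equiv.ofBijective φ hφ)
      rw [Nat.card_prod, Nat.card_prod, Nat.card_zmod, Module.natCard_eq_pow_finrank (K := ZMod 3) (V := V),
        Module.natCard_eq_pow_finrank (K := ZMod 3) (V := W), Nat.card_zmod, hn] at h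
      exact Nat.pow_right_injective (le_refl 2 |>.trans (by norm_num))
        (show 3 ^ n = 3 ^ (finrank (ZMod 3) W + 2) by rw [← h, pow_add]; ring)
    obtain ⟨i, hi, hZ⟩ := ih (finrank (ZMod 3) W) (by omega) W (Q.comp W.subtype) rfl hsepW uW
      (fun w => Subtype.ext (huu w.1)) (fun w => huQ w.1)
    refine ⟨i + 1, by omega, ?_⟩
    have hcount := card_zero_prod (fun p : ZMod 3 × ZMod 3 => Q e * (p.1 * p.1 + p.2 * p.2))
      (fun w : W => Q (w : V)) 1 4 (card_definite (Q e) he)
    have heq : Nat.card {x : V // Q x = 0} =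
        Nat.card {p : (ZMod 3 × ZMod 3) × W // Q e * (p.1.1 * p.1.1 + p.1.2 * p.1.2) + Q (p.2 : V) = 0} :=
      (Nat.card_congr ((Equiv.ofBijective φ hφ).subtypeEquiv fun p => by
        rw [Equiv.ofBijective_apply, hQφ])).symm
    rw [heq, hcount]
    have hW9 : (Nat.card W : ℤ) = 9 ^ i := by
      rw [Module.natCard_eq_pow_finrank (K := ZMod 3) (V := W), Nat.card_zmod, hi, pow_mul]
      norm_num
    simp only [QuadraticMap.comp_apply, Submodule.coe_subtype] at hZ
    rw [hW9]
    push_cast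
    rw [pow_succ, pow_succ]
    linear_combination (-3 : ℤ) * hZ

open CfsgLib.FischerThm

theorem stdQ_apply (n : ℕ) (s : ZMod 3) (v : Fin n → ZMod 3) :
    stdQ n s v = ∑ i : Fin n, (if i.val = 0 then s else 1) * (v i * v i) := by
  simp [stdQ, QuadraticMap.weightedSumSquares_apply]

/-- Splitting off two coordinates. -/
def splitTwo (n : ℕ) : ((ZMod 3 × ZMod 3) × (Fin n → ZMod 3)) ≃ (Fin (n + 2) → ZMod 3) where
  toFun p := Fin.cons p.1.1 (Fin.cons p.1.2 p.2)
  invFun v := ((v 0, v 1), fun i => v i.succ.succ)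
  left_inv p := by simp
  right_inv v := by
    funext i
    induction i using Fin.cases with
    | zero => rfl
    | succ i => induction i using Fin.cases <;> rfl

theorem card_zero_sum_sq (k : ℕ) :
    (3 * Nat.card {v : Fin (2 * k) → ZMod 3 // ∑ i, v i * v i = 0} : ℤ) = 9 ^ k + 2 * (-3) ^ k := by
  induction k with
  | zero =>
    have : Nat.card {v : Fin (2 * 0) → ZMod 3 // ∑ i, v i * v i = 0} = 1 := by
      rw [Nat.card_eq_one_iff_unique]
      exact ⟨⟨fun a b => Subtype.ext (funext fun i => Fin.elim0 i)⟩, ⟨⟨0, by simp⟩⟩⟩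
    rw [this]
    norm_num
  | succ k ih =>
    rw [show 2 * (k + 1) = 2 * k + 2 by ring, Nat.card_congr ((splitTwo (2 * k)).symm.subtypeEquiv
      (q := fun p => 1 * (p.1.1 * p.1.1 + p.1.2 * p.1.2) + ∑ i, p.2 i * p.2 i = 0) fun v => by
        simp [splitTwo, Fin.sum_univ_succ, add_assoc]),
      card_zero_prod (fun p : ZMod 3 × ZMod 3 => 1 * (p.1 * p.1 + p.2 * p.2))
        (fun w : Fin (2 * k) → ZMod 3 => ∑ i, w i * w i) 1 4 (card_definite 1 one_ne_zero)]
    simp only [Nat.card_fun, Nat.card_zmod, Nat.card_fin]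
    push_cast
    rw [pow_succ, pow_succ, pow_mul]
    linear_combination (-3 : ℤ) * ih

/-- The number of singular vectors of the diagonal form with first coefficient `-1`. -/
theorem card_zero_stdQ_neg (k : ℕ) (hk : 1 ≤ k) :
    (3 * Nat.card {v : Fin (2 * k) → ZMod 3 // stdQ (2 * k) (-1) v = 0} : ℤ) = 9 ^ k - 2 * (-3) ^ k := by
  obtain ⟨j, rfl⟩ : ∃ j, k = j + 1 := ⟨k - 1, by omega⟩
  rw [show 2 * (j + 1) = 2 * j + 2 by ring, Nat.card_congr ((splitTwo (2 * j)).symm.subtypeEquiv
    (q := fun p => (-(p.1.1 * p.1.1) + p.1.2 * p.1.2) + ∑ i, p.2 i * p.2 i = 0) fun v => by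
      simp [splitTwo, stdQ_apply, Fin.sum_univ_succ, add_assoc]),
    card_zero_prod (fun p : ZMod 3 × ZMod 3 => -(p.1 * p.1) + p.2 * p.2)
      (fun w : Fin (2 * j) → ZMod 3 => ∑ i, w i * w i) 5 2 card_hyperbolic]
  simp only [Nat.card_fun, Nat.card_zmod, Nat.card_fin]
  push_cast
  rw [pow_succ, pow_succ, pow_mul]
  linear_combination (3 : ℤ) * card_zero_sum_sq j

end CfsgLib.FischerDisc.Refl
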